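import Groth.Agent.InvExt.Module

/-!
The invertible module of a cocycle of units.
-/

set_option autoImplicit false
set_option backward.isDefEq.respectTransparency false

universe u

open CategoryTheory AlgebraicGeometry TopologicalSpace Opposite
open Groth.Agent.QC (res resO res_res res_smul resO_resO app_res Sub)
open Groth.Agent.InvExt (PairSec pairs res_pairs smul_snd)
open TMul (IsGen)

noncomputable section

namespace Groth.Agent.TorsPic

variable {X : Scheme.{u}} {κ : Type u} (W : κ → X.Opens) (G : ∀ z z', Γ(X, W z ⊓ W z'))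

/-- Families `a z` with `a z = G z z' * a z'` on overlaps. -/
def cocycle : Sub (pairs (Coh.structureModule X) W) where
  obj V :=
    { carrier := {p : PairSec (Coh.structureModule X) W V | p.1 = 0 ∧
        ∀ (z z' : κ) (O : X.Opens) (h : O ≤ V ⊓ W z) (h' : O ≤ V ⊓ W z'),
          resO X h (p.2 z) = resO X (le_inf (h.trans inf_le_right) (h'.trans inf_le_right)) (G z z') *
            resO X h' (p.2 z')}
      zero_mem' := ⟨rfl, fun z z' O h h' => by
        show resO X h (0 : Γ(X, V ⊓ W z)) = _ * resO X h' (0 : Γ(X, V ⊓ W z'))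
        rw [map_zero, map_zero, mul_zero]⟩
      add_mem' := fun {p q} hp hq => ⟨by
        change (show PairSec _ W V from p).1 + (show PairSec _ W V from q).1 = 0
        rw [hp.1, hq.1, add_zero], fun z z' O h h' => by
        change resO X h ((show PairSec _ W V from p).2 z + (show PairSec _ W V from q).2 z) =
          _ * resO X h' ((show PairSec _ W V from p).2 z' + (show PairSec _ W V from q).2 z')
        rw [map_add, map_add, mul_add, hp.2 z z' O h h', hq.2 z z' O h h']⟩
      smul_mem' := fun r p hp => ⟨by
        change r • (show PairSec _ W V from p).1 = 0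
        rw [hp.1, smul_zero], fun z z' O h h' => by
        change resO X h (resO X inf_le_left r * (show PairSec _ W V from p).2 z) =
          _ * resO X h' (resO X inf_le_left r * (show PairSec _ W V from p).2 z')
        rw [map_mul, map_mul, hp.2 z z' O h h', resO_resO, resO_resO, mul_left_comm]⟩ }
  res_mem {O' O} hO {p} hp := by
    change (show PairSec _ W O' from res (pairs _ W) hO p) ∈ {q : PairSec (Coh.structureModule X) W O' | _}
    rw [res_pairs hO p]
    refine ⟨?_, fun z z' P h h' => ?_⟩
    · change res (Coh.structureModule X) hO (show PairSec _ W O from p).1 = 0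
      rw [hp.1, map_zero]
    · change resO X h (resO X _ _) = _ * resO X h' (resO X _ _)
      rw [resO_resO, resO_resO]
      exact hp.2 z z' P _ _
  local' {O} p hp := by
    refine ⟨?_, fun z z' P h h' => TopCat.Presheaf.IsSheaf.section_ext X.sheaf.2 fun x hx => ?_⟩
    · refine Groth.Agent.QC.section_eq_of_locally fun x hx => ?_
      obtain ⟨B, hB, hxB, hmem⟩ := hp x hx
      refine ⟨B, hB, hxB, ?_⟩
      rw [map_zero]
      exact hmem.1
    · obtain ⟨B, hB, hxB, hmem⟩ := hp x (h hx).1
      refine ⟨P ⊓ B, inf_le_left, ⟨hx, hxB⟩, ?_⟩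
      have e := hmem.2 z z' (P ⊓ B) (le_inf inf_le_right (inf_le_left.trans (h.trans inf_le_right)))
        (le_inf inf_le_right (inf_le_left.trans (h'.trans inf_le_right)))
      change resO X _ (resO X _ ((show PairSec (Coh.structureModule X) W O from p).2 z)) =
        resO X _ (G z z') * resO X _ (resO X _ ((show PairSec (Coh.structureModule X) W O from p).2 z')) at e
      simp only [resO_resO] at e
      show resO X (inf_le_left : P ⊓ B ≤ P) _ = resO X (inf_le_left : P ⊓ B ≤ P) _
      rw [map_mul, resO_resO, resO_resO, resO_resO]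
      exact e

/-- The coefficient of a section on a piece. -/
def coef {V : X.Opens} (p : Γ((cocycle W G).toModules, V)) (z : κ) : Γ(X, V ⊓ W z) :=
  (show PairSec (Coh.structureModule X) W V from (cocycle W G).ι.app V p).2 z

lemma coef_add {V : X.Opens} (p q : Γ((cocycle W G).toModules, V)) (z : κ) :
    coef W G (p + q) z = coef W G p z + coef W G q z := by
  rw [coef, map_add]; rfl

lemma coef_smul {V : X.Opens} (r : Γ(X, V)) (p : Γ((cocycle W G).toModules, V)) (z : κ) :
    coef W G (r • p) z = resO X inf_le_left r * coef W G p z := by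
  rw [coef, Scheme.Modules.Hom.app_smul]; rfl

lemma coef_res {V V' : X.Opens} (h : V' ≤ V) (p : Γ((cocycle W G).toModules, V)) (z : κ) :
    coef W G (res _ h p) z = resO X (inf_le_inf_right (W z) h) (coef W G p z) := by
  rw [coef, ← app_res, res_pairs]; rfl

lemma coef_compat {V : X.Opens} (p : Γ((cocycle W G).toModules, V)) (z z' : κ) {O : X.Opens}
    (h : O ≤ V ⊓ W z) (h' : O ≤ V ⊓ W z') :
    resO X h (coef W G p z) = resO X (le_inf (h.trans inf_le_right) (h'.trans inf_le_right)) (G z z') *
      resO X h' (coef W G p z') :=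
  (((cocycle W G).range_ι_app V _).1 ⟨p, rfl⟩).2 z z' O h h'

lemma ext_coef {V : X.Opens} {p q : Γ((cocycle W G).toModules, V)} (h : ∀ z, coef W G p z = coef W G q z) :
    p = q := by
  refine (cocycle W G).ι_app_injective V (Prod.ext ?_ (funext h))
  exact (((cocycle W G).range_ι_app V _).1 ⟨p, rfl⟩).1.trans
    (((cocycle W G).range_ι_app V _).1 ⟨q, rfl⟩).1.symm

variable (h1 : ∀ z, G z z = 1)
  (h2 : ∀ (z z' z'' : κ) (O : X.Opens) (a : O ≤ W z) (b : O ≤ W z') (c : O ≤ W z''),
    resO X (le_inf a b) (G z z') * resO X (le_inf b c) (G z' z'') = resO X (le_inf a c) (G z z''))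

/-- The generator on a piece. -/
def gen (w : κ) : Γ((cocycle W G).toModules, W w) :=
  (⟨((0 : Γ(Coh.structureModule X, W w)), fun z => resO X (le_inf inf_le_right inf_le_left) (G z w)),
    ⟨rfl, fun z z' O h h' => by
      show resO X h (resO X _ (G z w)) = _ * resO X h' (resO X _ (G z' w))
      rw [resO_resO, resO_resO]
      exact (h2 z z' w O (h.trans inf_le_right) (h'.trans inf_le_right) (h.trans inf_le_left)).symm⟩⟩ :
    (cocycle W G).obj (W w))

lemma coef_gen (w z : κ) : coef W G (gen W G h2 w) z = resO X (le_inf inf_le_right inf_le_left) (G z w) := rfl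

include h1 in
lemma isGen_gen (w : κ) : IsGen (gen W G h2 w) := by
  intro V hV
  have hval : ∀ (k : Γ(X, V)) z, coef W G (k • res _ hV (gen W G h2 w)) z =
      resO X inf_le_left k * resO X (le_inf inf_le_right (inf_le_left.trans hV)) (G z w) := fun k z => by
    rw [coef_smul, coef_res, coef_gen, resO_resO]
  have hVw : V ≤ V ⊓ W w := le_inf le_rfl hV
  refine ⟨fun k k' h => ?_, fun p => ⟨resO X hVw (coef W G p w), ext_coef W G fun z => ?_⟩⟩
  · have e := congrArg (fun q => resO X hVw (coef W G q w)) h
    simp only [hval, h1, map_one, mul_one, resO_resO, Groth.Agent.QC.resO_self] at e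
    exact e
  · rw [hval, resO_resO, mul_comm]
    have e := coef_compat W G p z w (O := V ⊓ W z) le_rfl (le_inf inf_le_left (inf_le_left.trans hV))
    rw [Groth.Agent.QC.resO_self] at e
    exact e.symm

include h1 h2 in
theorem isInvertible_cocycle (hcov : ∀ x, ∃ z, x ∈ W z) : PicF.IsInvertible (cocycle W G).toModules :=
  InvGen.isInvertible fun x => by
    obtain ⟨z, hz⟩ := hcov x
    exact ⟨W z, gen W G h2 z, hz, isGen_gen W G h1 h2 z⟩

/-- The generators differ by the cocycle. -/
lemma gen_compat (w w' : κ) {O : X.Opens} (a : O ≤ W w) (b : O ≤ W w') :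
    res _ b (gen W G h2 w') = resO X (le_inf a b) (G w w') • res _ a (gen W G h2 w) := by
  refine ext_coef W G fun z => ?_
  rw [coef_smul, coef_res, coef_res, coef_gen, coef_gen, resO_resO, resO_resO, resO_resO, mul_comm]
  exact (h2 z w w' (O ⊓ W z) inf_le_right (inf_le_left.trans a) (inf_le_left.trans b)).symm

end Groth.Agent.TorsPic
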