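import Groth.Agent.TorsPic.Root
import Groth.Agent.TorsPic.Cocycle
import Groth.Agent.InvExt.Push
import Groth.Agent.TMul.Power
import Groth.Agent.TMul.Ample
import Groth.Agent.ProjMor.PullSec
import Groth.Agent.UfdExtend.Glue

/-!
Invertible modules with trivialised `n`-th power lift along thickenings.
-/

set_option autoImplicit false
set_option linter.style.haveILetI false
set_option backward.isDefEq.respectTransparency false

universe u

open CategoryTheory AlgebraicGeometry TopologicalSpace Opposite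
open Groth.Agent.QC (res resO res_res res_self res_smul resO_resO resO_self app_res abSheaf section_eq_of_locally)
open TMul (IsGen pw res_pw pw_smul isGen_pw homOf val_homOf val)

noncomputable section

namespace Groth.Agent.TorsPic

variable {X X' : Scheme.{u}} (i : X ⟶ X')

lemma isGen_iso_app {M N : X.Modules} (φ : M ≅ N) {U : X.Opens} {e : Γ(M, U)} (he : IsGen e) :
    IsGen (φ.hom.app U e) := fun V hV => by
  have hfun : (fun c : Γ(X, V) => c • res N hV (φ.hom.app U e)) =
      (fun m => φ.hom.app V m) ∘ fun c : Γ(X, V) => c • res M hV e := funext fun c => by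
    rw [Function.comp_apply, Scheme.Modules.Hom.app_smul, app_res]
  rw [hfun]
  exact (ConcreteCategory.bijective_of_isIso (φ.hom.app V)).comp (he V hV)

lemma isUnit_of_isGen {U : X.Opens} {u : Γ(X, U)} (h : IsGen (N := Coh.structureModule X) u) : IsUnit u := by
  obtain ⟨c, hc⟩ := (h U le_rfl).2 (1 : Γ(X, U))
  have hc' : c * resO X le_rfl u = 1 := hc
  rw [resO_self] at hc'
  exact IsUnit.of_mul_eq_one_right c hc'

/-- Generators on affine opens of the thickened scheme. -/
lemma exists_charts [IsClosedImmersion i] [Surjective i] {L : X.Modules} (hL : PicF.IsInvertible L) (z : X') :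
    ∃ (W : X'.Opens) (e : Γ(L, i ⁻¹ᵁ W)), IsAffineOpen W ∧ z ∈ W ∧ IsGen e := by
  obtain ⟨x, rfl⟩ := i.surjective z
  obtain ⟨U, e, hxU, he⟩ := TMul.exists_isGen hL x
  obtain ⟨V, hV, hVU⟩ := i.isClosedEmbedding.toIsEmbedding.isInducing.isOpen_iff.1 U.2
  have hxV : i x ∈ V := by
    have : x ∈ i ⁻¹' V := hVU ▸ hxU
    exact this
  obtain ⟨W, hW, hxW, hWV⟩ := exists_isAffineOpen_mem_and_subset (X := X') (x := i x) (U := ⟨V, hV⟩) hxV
  have hle : i ⁻¹ᵁ W ≤ U := fun y hy => by
    have : y ∈ i ⁻¹' V := hWV hy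
    rw [hVU] at this
    exact this
  exact ⟨W, res L hle e, hW, hxW, he.res hle⟩

section Data

variable {κ : Type u} (W : κ → X'.Opens) (G : ∀ z z', Γ(X', W z ⊓ W z')) {L : X.Modules}
  (e : ∀ z, Γ(L, i ⁻¹ᵁ W z))

/-- The comparison with the given module. -/
lemma exists_hom (hcov : ∀ x, ∃ z, x ∈ W z)
    (hge : ∀ (z z' : κ) (O : X'.Opens) (a : O ≤ W z) (b : O ≤ W z'),
      res L (i.preimage_mono b) (e z') = i.app O (resO X' (le_inf a b) (G z z')) • res L (i.preimage_mono a) (e z)) :
    ∃ ψ : (cocycle W G).toModules ⟶ (Scheme.Modules.pushforward i).obj L,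
      ∀ (V : X'.Opens) (p : Γ((cocycle W G).toModules, V)) (z : κ) (O : X'.Opens) (h : O ≤ V ⊓ W z),
        res L (i.preimage_mono (h.trans inf_le_left)) (ψ.app V p : Γ(L, i ⁻¹ᵁ V)) =
          i.app O (resO X' h (coef W G p z)) • res L (i.preimage_mono (h.trans inf_le_right)) (e z) := by
  let P : ∀ (V : X'.Opens), Γ((cocycle W G).toModules, V) → Γ(L, i ⁻¹ᵁ V) → Prop := fun V p s =>
    ∀ (z : κ) (O : X'.Opens) (h : O ≤ V ⊓ W z), res L (i.preimage_mono (h.trans inf_le_left)) s =
      i.app O (resO X' h (coef W G p z)) • res L (i.preimage_mono (h.trans inf_le_right)) (e z)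
  have huniq : ∀ V p s t, P V p s → P V p t → s = t := fun V p s t hs ht =>
    section_eq_of_locally fun y hy => by
      obtain ⟨z, hz⟩ := hcov (i y)
      refine ⟨i ⁻¹ᵁ (V ⊓ W z), i.preimage_mono inf_le_left, ⟨hy, hz⟩, ?_⟩
      exact (hs z _ le_rfl).trans (ht z _ le_rfl).symm
  have hex : ∀ V p, ∃ s, P V p s := fun V p => by
    obtain ⟨s, hs, -⟩ := TopCat.Sheaf.existsUnique_gluing' (abSheaf L) (fun z => i ⁻¹ᵁ (V ⊓ W z)) (i ⁻¹ᵁ V)
      (fun z => homOfLE (i.preimage_mono inf_le_left))
      (fun y hy => by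
        obtain ⟨z, hz⟩ := hcov (i y)
        exact Opens.mem_iSup.2 ⟨z, hy, hz⟩)
      (fun z => i.app (V ⊓ W z) (coef W G p z) • res L (i.preimage_mono inf_le_right) (e z))
      (fun z z' => by
        suffices key : ∀ (O : X'.Opens) (a : O ≤ V ⊓ W z) (b : O ≤ V ⊓ W z'),
            res L (i.preimage_mono a) (i.app (V ⊓ W z) (coef W G p z) • res L (i.preimage_mono inf_le_right) (e z)) =
            res L (i.preimage_mono b) (i.app (V ⊓ W z') (coef W G p z') • res L (i.preimage_mono inf_le_right) (e z'))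
          from key ((V ⊓ W z) ⊓ (V ⊓ W z')) inf_le_left inf_le_right
        intro O a b
        rw [res_smul, res_smul, res_res, res_res, ← app_resO i a, ← app_resO i b, coef_compat W G p z z' a b,
          hge z z' O (a.trans inf_le_right) (b.trans inf_le_right), map_mul, smul_smul, mul_comm])
    refine ⟨s, fun z O h => ?_⟩
    have e' := congrArg (res L (i.preimage_mono h)) (show res L (i.preimage_mono inf_le_left) s = _ from hs z)
    rw [res_res, res_smul, res_res, ← app_resO i h] at e'
    exact e'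
  choose s hs using hex
  let f : ∀ V : X'.Opens, Γ((cocycle W G).toModules, V) →+ Γ((Scheme.Modules.pushforward i).obj L, V) := fun V =>
    AddMonoidHom.mk' (fun p => s V p) fun p q => huniq V (p + q) _ _ (hs V _) fun z O h => by
      show res L _ (s V p + s V q) = _
      rw [map_add, hs V p z O h, hs V q z O h, coef_add, map_add, map_add, add_smul]
  let α : (cocycle W G).toModules.presheaf ⟶ ((Scheme.Modules.pushforward i).obj L).presheaf :=
    { app := fun V => AddCommGrpCat.ofHom (f V.unop)
      naturality := fun V V' g => by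
        ext p
        refine huniq V'.unop (res _ g.unop.le p) _ _ (hs _ _) fun z O h => ?_
        show res L _ (res L (i.preimage_mono g.unop.le) (s V.unop p)) = _
        rw [res_res, hs V.unop p z O (le_inf (h.trans (inf_le_left.trans g.unop.le)) (h.trans inf_le_right)),
          coef_res, resO_resO] }
  refine ⟨⟨PresheafOfModules.homMk α fun V r p => ?_⟩, fun V p => hs V p⟩
  refine huniq V.unop ((show Γ(X', V.unop) from r) • (show Γ((cocycle W G).toModules, V.unop) from p))
    _ _ (hs _ _) fun z O h => ?_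
  show res L _ (i.app V.unop (show Γ(X', V.unop) from r) • s V.unop p) = _
  rw [res_smul, hs V.unop p z O h, coef_smul, map_mul, resO_resO, map_mul, smul_smul, app_resO i (h.trans inf_le_left)]

end Data

theorem exists_lift [IsClosedImmersion i] [Surjective i] {n : ℕ} (hn0 : n ≠ 0) (hn : IsUnit (n : Γ(X, ⊤)))
    {L : X.Modules} (hL : PicF.IsInvertible L) (φ : CohB1.tensorPow L n ≅ Coh.structureModule X) :
    ∃ C : X'.Modules, PicF.IsInvertible C ∧ Nonempty (CohB1.tensorPow C n ≅ Coh.structureModule X') ∧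
      Nonempty ((Scheme.Modules.pullback i).obj C ≅ L) := by
  choose W e hW hzW he using fun z : X' => exists_charts i hL z
  have hcov : ∀ x : X', ∃ z, x ∈ W z := fun x => ⟨x, hzW x⟩
  -- units trivialising the power of the module
  let u : ∀ z, Γ(X, i ⁻¹ᵁ W z) := fun z => φ.hom.app (i ⁻¹ᵁ W z) (pw (e z) n)
  have hu : ∀ z, IsUnit (u z) := fun z => isUnit_of_isGen (isGen_iso_app φ (isGen_pw (he z) n))
  choose u' hu'i using fun z => i.app_surjective (W z) (hW z) (u z)
  have hu' : ∀ z, IsUnit (u' z) := fun z => isUnit_of_isUnit_app i (by rw [hu'i]; exact hu z)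
  choose g hg using fun z z' => (he z (i ⁻¹ᵁ (W z ⊓ W z')) (i.preimage_mono inf_le_left)).2
    (res L (i.preimage_mono inf_le_right) (e z'))
  replace hg : ∀ z z', g z z' • res L (i.preimage_mono inf_le_left) (e z) =
    res L (i.preimage_mono inf_le_right) (e z') := hg
  have hgn : ∀ z z', g z z' ^ n * resO X (i.preimage_mono inf_le_left) (u z) =
      resO X (i.preimage_mono (inf_le_right : W z ⊓ W z' ≤ W z')) (u z') := fun z z' => by
    have h := congrArg (fun m => φ.hom.app _ (pw m n)) (hg z z')
    simp only [pw_smul, Scheme.Modules.Hom.app_smul, ← res_pw, ← app_res] at h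
    exact h
  let c : ∀ z z', Γ(X', W z ⊓ W z') := fun z z' => resO X' (inf_le_right : W z ⊓ W z' ≤ W z') (u' z') *
    ((((hu' z).map (resO X' (inf_le_left : W z ⊓ W z' ≤ W z))).unit⁻¹ : Γ(X', W z ⊓ W z')ˣ) : Γ(X', W z ⊓ W z'))
  have hcu : ∀ z z', c z z' * resO X' inf_le_left (u' z) = resO X' inf_le_right (u' z') := fun z z' => by
    simp only [c, mul_assoc, IsUnit.val_inv_mul, mul_one]
  have hcunit : ∀ z z', IsUnit (c z z') := fun z z' => ((hu' z').map _).mul (Units.isUnit _)
  choose G hGn hGi using fun z z' => exists_root i hn hn0 (hcunit z z') (r := g z z') (by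
    have h := congrArg (i.app _) (hcu z z')
    rw [map_mul, app_resO, app_resO, hu'i, hu'i, ← hgn] at h
    exact (((hu z).map _).mul_left_inj.1 h).symm)
  have hGu : ∀ (z z' : X') (O : X'.Opens) (a : O ≤ W z) (b : O ≤ W z'),
      resO X' (le_inf a b) (G z z') ^ n * resO X' a (u' z) = resO X' b (u' z') := fun z z' O a b => by
    have h := congrArg (resO X' (le_inf a b)) (hcu z z')
    rw [← hGn, map_mul, map_pow, resO_resO, resO_resO] at h
    exact h
  have hge : ∀ (z z' : X') (O : X'.Opens) (a : O ≤ W z) (b : O ≤ W z'),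
      res L (i.preimage_mono b) (e z') = i.app O (resO X' (le_inf a b) (G z z')) • res L (i.preimage_mono a) (e z) :=
    fun z z' O a b => by
      have h := congrArg (res L (i.preimage_mono (le_inf a b))) (hg z z')
      rw [res_smul, res_res, res_res] at h
      rw [app_resO, hGi, h]
  have hGunit : ∀ z z', IsUnit (G z z') := fun z z' => (isUnit_pow_iff hn0).1 (hGn z z' ▸ hcunit z z')
  have h1 : ∀ z, G z z = 1 := fun z => by
    refine root_eq i hn isUnit_one ?_ ?_
    · have h := hGu z z _ inf_le_left inf_le_right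
      rw [resO_self] at h
      rw [one_pow]
      exact ((hu' z).map _).mul_left_inj.1 (h.trans (one_mul _).symm)
    · rw [hGi, map_one]
      exact (he z _ (i.preimage_mono inf_le_left)).1 ((hg z z).trans (one_smul _ _).symm)
  have h2 : ∀ (z z' z'' : X') (O : X'.Opens) (a : O ≤ W z) (b : O ≤ W z') (d : O ≤ W z''),
      resO X' (le_inf a b) (G z z') * resO X' (le_inf b d) (G z' z'') = resO X' (le_inf a d) (G z z'') :=
    fun z z' z'' O a b d => by
      refine root_eq i hn ((hGunit z z'').map _) ?_ ?_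
      · refine ((hu' z).map (resO X' a)).mul_left_inj.1 ?_
        rw [hGu z z'' O a d, mul_pow, mul_right_comm, hGu z z' O a b, mul_comm, hGu z' z'' O b d]
      · refine (he z _ (i.preimage_mono a)).1 ?_
        show i.app O _ • res L _ (e z) = i.app O _ • res L _ (e z)
        rw [map_mul, mul_comm, mul_smul, ← hge z z' O a b, ← hge z' z'' O b d, ← hge z z'' O a d]
  refine ⟨(cocycle W G).toModules, isInvertible_cocycle W G h1 h2 hcov, ?_, ?_⟩
  · -- a generating section of the power
    let C := (cocycle W G).toModules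
    let v : ∀ z, Γ(X', W z) := fun z => ↑(hu' z).unit⁻¹
    let T : ∀ z, Γ(CohB1.tensorPow C n, W z) := fun z => v z • pw (gen W G h2 z) n
    have hv : ∀ (z z' : X') (O : X'.Opens) (a : O ≤ W z) (b : O ≤ W z'),
        resO X' b (v z') * resO X' (le_inf a b) (G z z') ^ n = resO X' a (v z) := fun z z' O a b => by
      refine ((hu' z).map (resO X' a)).mul_left_inj.1 ?_
      rw [mul_assoc, hGu z z' O a b, ← map_mul, ← map_mul, IsUnit.val_inv_mul, IsUnit.val_inv_mul,
        map_one, map_one]
    obtain ⟨t, ht, -⟩ := TopCat.Sheaf.existsUnique_gluing' (abSheaf (CohB1.tensorPow C n)) W ⊤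
      (fun z => homOfLE le_top) (fun x _ => Opens.mem_iSup.2 ⟨x, hzW x⟩) T (fun z z' => by
        suffices key : ∀ (O : X'.Opens) (a : O ≤ W z) (b : O ≤ W z'),
            res (CohB1.tensorPow C n) a (T z) = res _ b (T z') from key _ inf_le_left inf_le_right
        intro O a b
        simp only [T]
        rw [res_smul, res_smul, res_pw, res_pw, gen_compat W G h2 z z' a b, pw_smul, smul_smul, hv z z' O a b])
    replace ht : ∀ z, res (CohB1.tensorPow C n) (le_top : W z ≤ ⊤) t = T z := ht
    haveI : IsIso (homOf t) := InvExt.isIso_of_hits_gen TMul.isInvertible_structureModule (homOf t) fun x => by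
      refine ⟨W x, (1 : Γ(X', W x)), hzW x, ?_⟩
      have h : (homOf t).app (W x) (1 : Γ(X', W x)) = T x := by
        show val (homOf t) (W x) = _
        rw [val_homOf, ht]
      rw [h]
      exact Groth.Agent.UfdExtend.isGen_unit_smul (isGen_pw (isGen_gen W G h1 h2 x) n) (Units.isUnit _)
    exact ⟨(asIso (homOf t)).symm⟩
  · obtain ⟨ψ₀, hψ₀⟩ := exists_hom i W G e hcov hge
    let adj := Scheme.Modules.pullbackPushforwardAdjunction i
    let ψ := (adj.homEquiv _ _).symm ψ₀
    haveI : IsIso ψ := InvExt.isIso_of_hits_gen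
      (PicLoc.isInvertible_pullback i (isInvertible_cocycle W G h1 h2 hcov)) ψ fun y => by
      refine ⟨i ⁻¹ᵁ W (i y), ProjMor.eta i _ (W (i y)) (gen W G h2 (i y)), hzW _, ?_⟩
      have h : ψ.app (i ⁻¹ᵁ W (i y)) (ProjMor.eta i _ (W (i y)) (gen W G h2 (i y))) =
          ψ₀.app (W (i y)) (gen W G h2 (i y)) := by
        conv_rhs => rw [← (adj.homEquiv _ _).apply_symm_apply ψ₀, Adjunction.homEquiv_unit]
        rfl
      have h' : (ψ₀.app (W (i y)) (gen W G h2 (i y)) : Γ(L, i ⁻¹ᵁ W (i y))) = e (i y) := by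
        refine section_eq_of_locally (M := L) (U := i ⁻¹ᵁ W (i y)) fun x hx => ⟨i ⁻¹ᵁ (W (i y) ⊓ W (i x)), i.preimage_mono inf_le_left,
          ⟨hx, hzW _⟩, ?_⟩
        rw [hψ₀ _ (gen W G h2 (i y)) (i x) (W (i y) ⊓ W (i x)) le_rfl, resO_self, coef_gen,
          ← hge (i x) (i y) _ inf_le_right inf_le_left]
      rw [h, h']
      exact he _
    exact ⟨asIso ψ⟩

end Groth.Agent.TorsPic
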